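import Mathlib

/-!
Termwise split factorizations of maps of cochain complexes through homotopy equivalences.
-/

set_option autoImplicit false
universe v u

open CategoryTheory CategoryTheory.Limits CochainComplex HomComplex

namespace Groth.Agent.HtpyFactor

variable {V : Type u} [Category.{v} V] [Preadditive V] [HasBinaryBiproducts V]

/-- A split mono with an explicit complement is a coprojection. -/
lemma exists_iso_biprod {A B C : V} (a : A ⟶ B) (r : B ⟶ A) (i : C ⟶ B) (p : B ⟶ C)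
    (har : a ≫ r = 𝟙 A) (hip : i ≫ p = 𝟙 C) (h : p ≫ i + r ≫ a = 𝟙 B) :
    ∃ e : B ≅ A ⊞ C, a ≫ e.hom = biprod.inl ∧ e.hom ≫ biprod.fst = r := by
  have h1 : a ≫ p = 0 := by
    have := a ≫= h
    rw [Preadditive.comp_add, reassoc_of% har, Category.comp_id, add_eq_right] at this
    simpa [hip] using this =≫ p
  have h2 : i ≫ r = 0 := by
    have := i ≫= h
    rw [Preadditive.comp_add, reassoc_of% hip, Category.comp_id, add_eq_left] at this
    simpa [har] using this =≫ r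
  refine ⟨⟨biprod.lift r p, biprod.desc a i, ?_, ?_⟩, ?_, biprod.lift_fst _ _⟩
  · rw [biprod.lift_desc, add_comm, h]
  · ext <;> simp [har, hip, h1, h2]
  · ext <;> simp [har, h1]

lemma isZero_biprod {X Y : V} (hX : IsZero X) (hY : IsZero Y) : IsZero (X ⊞ Y) := by
  rw [IsZero.iff_id_eq_zero]
  ext
  · exact hX.eq_of_src _ _
  · exact hX.eq_of_src _ _
  · exact hY.eq_of_src _ _
  · exact hY.eq_of_src _ _

lemma isZero_biprod_X (K L : CochainComplex V ℤ) (n : ℤ) (hK : IsZero (K.X n))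
    (hL : IsZero (L.X n)) : IsZero ((K ⊞ L).X n) :=
  (isZero_biprod hK hL).of_iso ((HomologicalComplex.eval V (.up ℤ) n).mapBiprod K L)

lemma biprod_isStrictlyGE (K L : CochainComplex V ℤ) (a : ℤ) [K.IsStrictlyGE a]
    [L.IsStrictlyGE a] : (K ⊞ L).IsStrictlyGE a := by
  rw [isStrictlyGE_iff]
  exact fun i hi => isZero_biprod_X K L i (K.isZero_of_isStrictlyGE a i hi)
    (L.isZero_of_isStrictlyGE a i hi)

lemma biprod_isStrictlyLE (K L : CochainComplex V ℤ) (a : ℤ) [K.IsStrictlyLE a]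
    [L.IsStrictlyLE a] : (K ⊞ L).IsStrictlyLE a := by
  rw [isStrictlyLE_iff]
  exact fun i hi => isZero_biprod_X K L i (K.isZero_of_isStrictlyLE a i hi)
    (L.isZero_of_isStrictlyLE a i hi)

lemma mappingCone_isStrictlyLE {K L : CochainComplex V ℤ} (f : K ⟶ L) (b₁ b₂ b : ℤ)
    [K.IsStrictlyLE b₁] [L.IsStrictlyLE b₂] (h₁ : b₁ ≤ b + 1) (h₂ : b₂ ≤ b) :
    (mappingCone f).IsStrictlyLE b := by
  rw [isStrictlyLE_iff]
  intro i hi
  simp only [mappingCone.isZero_X_iff]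
  exact ⟨K.isZero_of_isStrictlyLE b₁ _, L.isZero_of_isStrictlyLE b₂ _⟩

/-- `K ⊞ C` with `C` contractible is homotopy equivalent to `K`. -/
noncomputable def fstInlHomotopy (K C : CochainComplex V ℤ) (h : Homotopy (𝟙 C) 0) :
    Homotopy (biprod.fst ≫ biprod.inl) (𝟙 (K ⊞ C)) :=
  (Homotopy.ofEq (by simp)).trans
    (((Homotopy.refl (biprod.fst ≫ biprod.inl)).add
      ((h.symm.compLeft biprod.snd).compRight biprod.inr)).trans (Homotopy.ofEq (by simp [biprod.total])))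

lemma fst_inl_add_snd_inr (K C : CochainComplex V ℤ) (n : ℤ) :
    (biprod.fst : K ⊞ C ⟶ K).f n ≫ (biprod.inl : K ⟶ K ⊞ C).f n +
      (biprod.snd : K ⊞ C ⟶ C).f n ≫ (biprod.inr : C ⟶ K ⊞ C).f n = 𝟙 _ := by
  rw [← HomologicalComplex.comp_f, ← HomologicalComplex.comp_f, ← HomologicalComplex.add_f_apply,
    biprod.total, HomologicalComplex.id_f]

variable (K L : CochainComplex V ℤ) (α : K ⟶ L)

/-- The termwise split injection. -/
lemma split_inj (n : ℤ) :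
    ∃ (C : V) (e : (L ⊞ mappingCone (𝟙 K)).X n ≅ K.X n ⊞ C),
      (biprod.lift α (mappingCone.inr (𝟙 K))).f n ≫ e.hom = biprod.inl := by
  let r : (L ⊞ mappingCone (𝟙 K)).X n ⟶ K.X n :=
    (biprod.snd : L ⊞ mappingCone (𝟙 K) ⟶ _).f n ≫ (mappingCone.snd (𝟙 K)).v n n (add_zero n)
  obtain ⟨e, he, -⟩ := exists_iso_biprod ((biprod.lift α (mappingCone.inr (𝟙 K))).f n) r
    (biprod.desc ((biprod.inl : L ⟶ L ⊞ mappingCone (𝟙 K)).f n)
      ((mappingCone.inl (𝟙 K)).v (n + 1) n (by lia) ≫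
        (biprod.inr : mappingCone (𝟙 K) ⟶ L ⊞ _).f n))
    (biprod.lift ((biprod.fst : L ⊞ mappingCone (𝟙 K) ⟶ _).f n - r ≫ α.f n)
      ((biprod.snd : L ⊞ mappingCone (𝟙 K) ⟶ _).f n ≫
        (mappingCone.fst (𝟙 K)).1.v n (n + 1) rfl))
    (by simp [r]) (by ext <;> simp [r]) (by
      have hl : (biprod.lift α (mappingCone.inr (𝟙 K))).f n =
          α.f n ≫ (biprod.inl : L ⟶ L ⊞ mappingCone (𝟙 K)).f n +
            (mappingCone.inr (𝟙 K)).f n ≫
              (biprod.inr : mappingCone (𝟙 K) ⟶ L ⊞ _).f n := by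
        rw [biprod.lift_eq]; simp
      have hc := (biprod.snd : L ⊞ mappingCone (𝟙 K) ⟶ _).f n ≫=
        (mappingCone.id_X (𝟙 K) n (n + 1) rfl =≫ (biprod.inr : mappingCone (𝟙 K) ⟶ L ⊞ _).f n)
      simp only [Preadditive.add_comp, Preadditive.comp_add, Category.assoc,
        Category.id_comp] at hc
      conv_rhs => rw [← fst_inl_add_snd_inr, ← hc]
      rw [hl, biprod.lift_desc]
      simp [r]
      abel)
  exact ⟨_, e, he⟩

omit [HasBinaryBiproducts V] in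
lemma aux {X Y : V} {p q r s : ℤ} (a : X ⟶ L.X p) (δ : X ⟶ Y) (b : Y ⟶ L.X q)
    (hp : p = s) (hq : q = r) (h : δ ≫ b = -a ≫ ((-1 : ℤ).negOnePow • L.d p q)) :
    (a ≫ (L.XIsoOfEq hp).hom) ≫ L.d s r = δ ≫ b ≫ (L.XIsoOfEq hq).hom := by
  subst hp hq
  simp [h]

/-- The contractible complex mapping onto `L`. -/
noncomputable def coverMap : mappingCone (𝟙 (L⟦(-1 : ℤ)⟧)) ⟶ L where
  f n := (mappingCone.fst (𝟙 (L⟦(-1 : ℤ)⟧))).1.v n (n + 1) rfl ≫
    (L.XIsoOfEq (by lia : (n + 1) + (-1) = n)).hom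
  comm' i j hij := by
    obtain rfl : i + 1 = j := hij
    exact aux L (p := i + 1 + (-1)) (q := i + 1 + 1 + (-1)) _ _ _ (by lia) (by lia)
      (mappingCone.d_fst_v (𝟙 (L⟦(-1 : ℤ)⟧)) i (i + 1) (i + 1 + 1) rfl rfl)

lemma split_surj (n : ℤ) :
    ∃ (C : V) (e : (K ⊞ mappingCone (𝟙 (L⟦(-1 : ℤ)⟧))).X n ≅ C ⊞ L.X n),
      e.inv ≫ (biprod.desc α (coverMap L)).f n = biprod.snd := by
  let M := L⟦(-1 : ℤ)⟧
  let u : M.X (n + 1) ≅ L.X n := L.XIsoOfEq (by lia : (n + 1) + (-1) = n)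
  let σ : L.X n ⟶ (K ⊞ mappingCone (𝟙 M)).X n :=
    u.inv ≫ (mappingCone.inl (𝟙 M)).v (n + 1) n (by lia) ≫
      (biprod.inr : mappingCone (𝟙 M) ⟶ K ⊞ _).f n
  have hd : (biprod.desc α (coverMap L)).f n =
      (biprod.fst : K ⊞ mappingCone (𝟙 M) ⟶ _).f n ≫ α.f n +
        (biprod.snd : K ⊞ mappingCone (𝟙 M) ⟶ _).f n ≫
          (mappingCone.fst (𝟙 M)).1.v n (n + 1) rfl ≫ u.hom := by
    rw [biprod.desc_eq]; simp [coverMap, M, u]
  obtain ⟨e, -, he⟩ := exists_iso_biprod σ ((biprod.desc α (coverMap L)).f n)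
    (biprod.desc ((biprod.inl : K ⟶ K ⊞ mappingCone (𝟙 M)).f n - α.f n ≫ σ)
      ((mappingCone.inr (𝟙 M)).f n ≫ (biprod.inr : mappingCone (𝟙 M) ⟶ K ⊞ _).f n))
    (biprod.lift ((biprod.fst : K ⊞ mappingCone (𝟙 M) ⟶ _).f n)
      ((biprod.snd : K ⊞ mappingCone (𝟙 M) ⟶ _).f n ≫
        (mappingCone.snd (𝟙 M)).v n n (add_zero n)))
    (by rw [hd]; simp [σ]) (by ext <;> simp [σ]) (by
      have hc := (biprod.snd : K ⊞ mappingCone (𝟙 M) ⟶ _).f n ≫=
        (mappingCone.id_X (𝟙 M) n (n + 1) rfl =≫ (biprod.inr : mappingCone (𝟙 M) ⟶ K ⊞ _).f n)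
      simp only [Preadditive.add_comp, Preadditive.comp_add, Category.assoc,
        Category.id_comp] at hc
      conv_rhs => rw [← fst_inl_add_snd_inr, ← hc]
      rw [hd, biprod.lift_desc]
      simp [σ]
      abel)
  refine ⟨_, e ≪≫ biprod.braiding _ _, ?_⟩
  rw [← he]
  simp

end Groth.Agent.HtpyFactor
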